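import Mathlib
import Cfsg.Prelude.Def_Solvable

/-!
# The facts about the double cover of the first Conway group used for a standard component
-/

set_option autoImplicit false

namespace CfsgLib.CoNoughtStd

variable {A : Type*} [Group A]

/-- An involution other than `t` conjugate to neither `s` nor `t * s`. -/
def IsTwelve (t s a : A) : Prop := a * a = 1 ∧ a ≠ 1 ∧ a ≠ t ∧ ¬ IsConj s a ∧ ¬ IsConj (t * s) a

/-- The classes of involutions and of roots of the central involution, and the core of one centraliser. -/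
structure Facts (t s : A) : Prop where
  t_central : t ∈ Subgroup.center A
  t2 : t * t = 1
  t_ne : t ≠ 1
  center_cases : ∀ z ∈ Subgroup.center A, z = 1 ∨ z = t
  s2 : s * s = 1
  s_ne : s ≠ 1
  s_ne_t : s ≠ t
  not_anti : ¬ IsConj s (t * s)
  twelve : ∀ a b : A, IsTwelve t s a → IsTwelve t s b → IsConj a b
  four : ∀ a b : A, a * a = t → b * b = t → IsConj a b
  octads : ∃ o₁ o₂ : A, IsConj (t * s) o₁ ∧ IsConj (t * s) o₂ ∧ IsConj (t * s) (o₁ * o₂) ∧ Commute o₁ o₂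
  dodecads : ∃ d₁ d₂ : A, IsTwelve t s d₁ ∧ IsTwelve t s d₂ ∧ Commute d₁ d₂ ∧
    (IsConj s (d₁ * d₂) ∨ IsConj (t * s) (d₁ * d₂))
  fours : ∃ a b : A, a * a = t ∧ b * b = t ∧ Commute a b ∧ b ≠ a ∧ b ≠ t * a
  odd_index : Odd (Subgroup.centralizer ({s} : Set A)).index
  core_comm : ∀ x ∈ Cfsg.pCore 2 (Subgroup.centralizer ({s} : Set A)),
    ∀ y ∈ Cfsg.pCore 2 (Subgroup.centralizer ({s} : Set A)),
      (x : A) * y * (x : A)⁻¹ * (y : A)⁻¹ = 1 ∨ (x : A) * y * (x : A)⁻¹ * (y : A)⁻¹ = s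
  core_nonab : ∃ x ∈ Cfsg.pCore 2 (Subgroup.centralizer ({s} : Set A)),
    ∃ y ∈ Cfsg.pCore 2 (Subgroup.centralizer ({s} : Set A)), (x : A) * y * (x : A)⁻¹ * (y : A)⁻¹ = s

end CfsgLib.CoNoughtStd
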