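import Cfsg.Agent.Lib.CoNoughtStd.Facts
import Cfsg.Agent.Lib.Invol.ZStarFinal
import Cfsg.Agent.Lib.Invol.Counting
import Cfsg.Agent.Lib.Cores.Basic
import Cfsg.Prelude.Def_Local

/-!
# A standard subgroup of the type of the double cover of the first Conway group has an isolated central involution
-/

set_option autoImplicit false

namespace CfsgLib.CoNoughtStd

variable {G H : Type*} [Group G] [Group H] {ι : H →* G} {t s : H}

/-- The double cover with its centraliser, which has cyclic Sylow two-subgroups. -/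
structure Setting (ι : H →* G) (t s : H) : Prop where
  inj : Function.Injective ι
  facts : Facts t s
  cent : ∀ g : G, Commute g (ι t) → ∃ a : H, ∃ k ∈ Subgroup.centralizer (ι.range : Set G), g = ι a * k
  cyc : ∀ R : Sylow 2 (Subgroup.centralizer (ι.range : Set G)), IsCyclic ↥(R : Subgroup ↥(Subgroup.centralizer (ι.range : Set G)))

/-- The order two class has even index in the centraliser when the product with the centre is conjugate. -/
theorem even_index {C : Subgroup G} {y : C} {z : C} (hzc : ∀ c : C, c * z = z * c) (hz2 : z * z = 1)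
    (hne : y * z ≠ y) (hconj : IsConj y (y * z)) : 2 ∣ (Subgroup.centralizer ({y} : Set C)).index := by
  let M : Subgroup C :=
    { carrier := {c | c * y * c⁻¹ = y ∨ c * y * c⁻¹ = y * z}
      one_mem' := Or.inl (by simp)
      mul_mem' := by
        rintro a b ha hb
        have hab : a * b * y * (a * b)⁻¹ = a * (b * y * b⁻¹) * a⁻¹ := by group
        rcases hb with hb | hb
        · rcases ha with ha | ha
          · exact Or.inl (by rw [hab, hb, ha])
          · exact Or.inr (by rw [hab, hb, ha])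
        · have hz : a * (y * z) * a⁻¹ = a * y * a⁻¹ * z := by
            rw [show a * (y * z) * a⁻¹ = a * y * (z * a⁻¹) by group, ← hzc a⁻¹]
            group
          rcases ha with ha | ha
          · exact Or.inr (by rw [hab, hb, hz, ha])
          · exact Or.inl (by rw [hab, hb, hz, ha, mul_assoc, hz2, mul_one])
      inv_mem' := by
        rintro a ha
        rcases ha with ha | ha
        · refine Or.inl ?_
          nth_rw 1 [← ha]
          group
        · refine Or.inr ?_
          have h : a * (y * z) * a⁻¹ = y := by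
            rw [show a * (y * z) * a⁻¹ = a * y * (z * a⁻¹) by group, ← hzc a⁻¹,
              show a * y * (a⁻¹ * z) = a * y * a⁻¹ * z by group, ha, mul_assoc, hz2, mul_one]
          nth_rw 1 [← h]
          group }
  have hle : Subgroup.centralizer ({y} : Set C) ≤ M := fun c hc => Or.inl (by
    rw [Subgroup.mem_centralizer_singleton_iff.1 hc, mul_inv_cancel_right])
  rw [← Subgroup.relIndex_mul_index hle]
  refine Dvd.dvd.mul_right (dvd_of_eq ?_) _
  symm
  obtain ⟨c, hc⟩ := isConj_iff.1 hconj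
  rw [Subgroup.relIndex, Subgroup.index_eq_two_iff]
  have key : ∀ b : M, b ∈ (Subgroup.centralizer ({y} : Set C)).subgroupOf M ↔ (b : C) * y * (b : C)⁻¹ = y :=
    fun b => by
      rw [Subgroup.mem_subgroupOf, Subgroup.mem_centralizer_singleton_iff, mul_inv_eq_iff_eq_mul]
  refine ⟨⟨c, Or.inr hc⟩, fun b => ?_⟩
  have hb : (b : C) * c * y * ((b : C) * c)⁻¹ = (b : C) * y * (b : C)⁻¹ * z := by
    rw [show (b : C) * c * y * ((b : C) * c)⁻¹ = (b : C) * (c * y * c⁻¹) * (b : C)⁻¹ by group, hc,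
      show (b : C) * (y * z) * (b : C)⁻¹ = (b : C) * y * (z * (b : C)⁻¹) by group, ← hzc (b : C)⁻¹]
    group
  rw [key, key]
  rcases b.2 with e | e
  · refine Or.inr ⟨e, fun h => hne ?_⟩
    rw [show ((b * ⟨c, Or.inr hc⟩ : M) : C) = (b : C) * c from rfl, hb, e] at h
    exact h
  · refine Or.inl ⟨?_, fun h => hne (e.symm.trans h)⟩
    rw [show ((b * ⟨c, Or.inr hc⟩ : M) : C) = (b : C) * c from rfl, hb, e, mul_assoc, hz2, mul_one]

namespace Setting

variable (D : Setting ι t s)
include D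

theorem comm {k : G} (hk : k ∈ Subgroup.centralizer (ι.range : Set G)) (a : H) : Commute (ι a) k :=
  Subgroup.mem_centralizer_iff.1 hk _ ⟨a, rfl⟩

theorem tK : ι t ∈ Subgroup.centralizer (ι.range : Set G) := by
  refine Subgroup.mem_centralizer_iff.2 ?_
  rintro _ ⟨a, rfl⟩
  rw [← map_mul, ← map_mul, Subgroup.mem_center_iff.1 D.facts.t_central a]

theorem tt : ι t * ι t = 1 := by rw [← map_mul, D.facts.t2, map_one]

theorem tne : ι t ≠ 1 := fun e => D.facts.t_ne (D.inj (e.trans (map_one ι).symm))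

theorem commute_t (a : H) : Commute (ι t) (ι a) :=
  (show Commute t a from (Subgroup.mem_center_iff.1 D.facts.t_central a).symm).map ι

theorem meet {a : H} (ha : ι a ∈ Subgroup.centralizer (ι.range : Set G)) : a = 1 ∨ a = t :=
  D.facts.center_cases a (Subgroup.mem_center_iff.2 fun b => D.inj (by
    rw [map_mul, map_mul]; exact Subgroup.mem_centralizer_iff.1 ha _ ⟨b, rfl⟩))

variable [Finite G]

/-- Elements of a two-subgroup of the centraliser commute. -/
theorem commute_two {P : Subgroup (Subgroup.centralizer (ι.range : Set G))} (hP : IsPGroup 2 P)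
    {x y : Subgroup.centralizer (ι.range : Set G)} (hx : x ∈ P) (hy : y ∈ P) : Commute x y := by
  obtain ⟨R, hR⟩ := hP.exists_le_sylow
  obtain ⟨g, hg⟩ := (D.cyc R).exists_generator
  obtain ⟨m, hm⟩ := Subgroup.mem_zpowers_iff.1 (hg ⟨x, hR hx⟩)
  obtain ⟨l, hl⟩ := Subgroup.mem_zpowers_iff.1 (hg ⟨y, hR hy⟩)
  have h : Commute (⟨x, hR hx⟩ : (R : Subgroup _)) ⟨y, hR hy⟩ := hm ▸ hl ▸ (Commute.refl g).zpow_zpow m l
  exact congrArg Subtype.val h.eq

/-- The central involution is the only involution of the centraliser. -/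
theorem invol_K {k : G} (hk : k ∈ Subgroup.centralizer (ι.range : Set G)) (h2 : k * k = 1) :
    k = 1 ∨ k = ι t := by
  haveI : Fact (Nat.Prime 2) := ⟨Nat.prime_two⟩
  by_cases h1 : k = 1
  · exact Or.inl h1
  right
  let k' : Subgroup.centralizer (ι.range : Set G) := ⟨k, hk⟩
  let t' : Subgroup.centralizer (ι.range : Set G) := ⟨ι t, D.tK⟩
  have htc : ∀ a, Commute a t' := fun a => Subtype.ext (D.comm a.2 t).eq.symm
  haveI : (Subgroup.zpowers t').Normal := ⟨fun z hz a => by
    obtain ⟨m, rfl⟩ := Subgroup.mem_zpowers_iff.1 hz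
    rw [((htc a).zpow_right m).eq, mul_inv_cancel_right]
    exact Subgroup.zpow_mem_zpowers _ _⟩
  have hk2 : orderOf k' = 2 := orderOf_eq_prime (by rw [pow_two]; exact Subtype.ext h2) fun e =>
    h1 (congrArg Subtype.val e)
  have ht2 : orderOf t' = 2 := orderOf_eq_prime (by rw [pow_two]; exact Subtype.ext D.tt) fun e =>
    D.tne (congrArg Subtype.val e)
  have hkp : IsPGroup 2 (Subgroup.zpowers k') :=
    IsPGroup.of_card (n := 1) (by rw [Nat.card_zpowers, hk2, pow_one])
  have htp : IsPGroup 2 (Subgroup.zpowers t') :=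
    IsPGroup.of_card (n := 1) (by rw [Nat.card_zpowers, ht2, pow_one])
  obtain ⟨R, hR⟩ := hkp.exists_le_sylow
  have htR : t' ∈ (R : Subgroup _) :=
    Cores.pCore_le_sylow R (Cores.le_pCore htp (Subgroup.mem_zpowers t'))
  obtain ⟨g, hg⟩ := (D.cyc R).exists_generator
  have := Invol.mem_zpowers_unique_involution (r := g) (hg ⟨k', hR (Subgroup.mem_zpowers k')⟩) (hg ⟨t', htR⟩)
    ((Subgroup.orderOf_mk _ _).trans hk2) ((Subgroup.orderOf_mk _ _).trans ht2)
  exact congrArg Subtype.val (congrArg Subtype.val this :)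

/-- The involutions commuting with the central one. -/
theorem invol_cent {y : G} (hy : Commute y (ι t)) (h2 : y * y = 1) :
    (∃ a : H, y = ι a ∧ a * a = 1) ∨
      ∃ a : H, ∃ k ∈ Subgroup.centralizer (ι.range : Set G), y = ι a * k ∧ a * a = t ∧ k * k = ι t := by
  obtain ⟨a, k, hk, rfl⟩ := D.cent y hy
  rw [(D.comm hk a).symm.mul_mul_mul_comm, ← map_mul] at h2
  have hmem : ι (a * a) ∈ Subgroup.centralizer (ι.range : Set G) := by
    rw [eq_inv_of_mul_eq_one_left h2]
    exact inv_mem (mul_mem hk hk)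
  rcases D.meet hmem with e | e
  · left
    rw [e, map_one, one_mul] at h2
    rcases D.invol_K hk h2 with rfl | rfl
    · exact ⟨a, mul_one _, e⟩
    · refine ⟨a * t, (map_mul ι a t).symm, ?_⟩
      rw [show a * t * (a * t) = a * (t * a) * t by group, ← Subgroup.mem_center_iff.1 D.facts.t_central a,
        show a * (a * t) * t = a * a * (t * t) by group, e, D.facts.t2, one_mul]
  · right
    refine ⟨a, k, hk, rfl, e, ?_⟩
    rw [e] at h2
    rw [eq_inv_of_mul_eq_one_right h2, inv_eq_of_mul_eq_one_right D.tt]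

omit [Finite G] in
theorem tcomm (a : H) : t * a = a * t := (Subgroup.mem_center_iff.1 D.facts.t_central a).symm

omit [Finite G] in
theorem tmul_cancel (a : H) : t * (t * a) = a := by rw [← mul_assoc, D.facts.t2, one_mul]

omit [Finite G] in
theorem isConj_tmul {a b : H} (h : IsConj a b) : IsConj (t * a) (t * b) := by
  obtain ⟨c, hc⟩ := isConj_iff.1 h
  refine isConj_iff.2 ⟨c, ?_⟩
  rw [← hc, show c * (t * a) * c⁻¹ = (c * t) * a * c⁻¹ by group, ← D.tcomm c]
  group

omit [Finite G] in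
theorem four_tmul {a : H} (ha : a * a = t) : t * a * (t * a) = t := by
  rw [show t * a * (t * a) = t * (a * t) * a by group, ← D.tcomm a, D.tmul_cancel, ha]

omit [Finite G] in
/-- The product with `t` of an element in the third class is in that class. -/
theorem twelve_tmul {a : H} (h : IsTwelve t s a) : IsTwelve t s (t * a) := by
  obtain ⟨h2, h1, ht, hs, hts⟩ := h
  refine ⟨?_, fun e => ht ?_, fun e => h1 (mul_eq_left.1 e), fun e => hts ?_, fun e => hs ?_⟩
  · rw [show t * a * (t * a) = t * (a * t) * a by group, ← D.tcomm a, D.tmul_cancel, h2]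
  · rw [← D.tmul_cancel a, e, mul_one]
  · simpa [D.tmul_cancel] using D.isConj_tmul e
  · simpa [D.tmul_cancel] using D.isConj_tmul e

omit [Finite G] in
/-- The classes of involutions. -/
theorem cases_invol {a : H} (h2 : a * a = 1) (h1 : a ≠ 1) (ht : a ≠ t) :
    IsConj s a ∨ IsConj (t * s) a ∨ IsTwelve t s a := by
  by_cases hs : IsConj s a
  · exact Or.inl hs
  by_cases hts : IsConj (t * s) a
  · exact Or.inr (Or.inl hts)
  exact Or.inr (Or.inr ⟨h2, h1, ht, hs, hts⟩)

omit [Finite G] in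
theorem conj_mul {a b : H} (h : IsConj a b) {k : G} (hk : k ∈ Subgroup.centralizer (ι.range : Set G)) :
    IsConj (ι a * k) (ι b * k) := by
  obtain ⟨c, hc⟩ := isConj_iff.1 h
  refine isConj_iff.2 ⟨ι c, ?_⟩
  rw [← hc, map_mul, map_mul, map_inv, show ι c * (ι a * k) * (ι c)⁻¹ = ι c * ι a * (k * (ι c)⁻¹) by group,
    ← (D.comm hk c).inv_left.eq]
  group

/-- Being conjugate to the central involution. -/
local notation "InX" => IsConj (ι t)

omit [Finite G] in
theorem x_sq {y : G} (h : InX y) : y * y = 1 := by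
  obtain ⟨g, hg⟩ := isConj_iff.1 h
  rw [← hg, show g * ι t * g⁻¹ * (g * ι t * g⁻¹) = g * (ι t * ι t) * g⁻¹ by group, D.tt, mul_one, mul_inv_cancel]

omit [Finite G] in
theorem conj_cent {a : H} (c : H) : ι c * ι a * (ι c)⁻¹ = ι (c * a * c⁻¹) := by simp

/-- The index in the centraliser of `s` is odd. -/
theorem odd_index_s : Odd ((Subgroup.centralizer
    ({⟨ι s, Subgroup.mem_centralizer_singleton_iff.2 (D.commute_t s).symm.eq⟩} :
      Set (Subgroup.centralizer ({ι t} : Set G)))).index) := by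
  let C := Subgroup.centralizer ({ι t} : Set G)
  let sC : C := ⟨ι s, Subgroup.mem_centralizer_singleton_iff.2 (D.commute_t s).symm.eq⟩
  let f : H →* C := ι.codRestrict C fun a => Subgroup.mem_centralizer_singleton_iff.2 (D.commute_t a).symm.eq
  have hcomap : (Subgroup.centralizer ({sC} : Set C)).comap f = Subgroup.centralizer ({s} : Set H) := by
    ext a
    simp only [Subgroup.mem_comap, Subgroup.mem_centralizer_singleton_iff]
    exact ⟨fun e => D.inj (by rw [map_mul, map_mul]; exact congrArg Subtype.val e),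
      fun e => Subtype.ext (show ι a * ι s = ι s * ι a by rw [← map_mul, ← map_mul, e])⟩
  have hiff : ∀ a b : H, f a⁻¹ * f b ∈ Subgroup.centralizer ({sC} : Set C) ↔
      a⁻¹ * b ∈ Subgroup.centralizer ({s} : Set H) := fun a b => by
    rw [← hcomap, Subgroup.mem_comap, map_mul]
  let φ : H ⧸ Subgroup.centralizer ({s} : Set H) → C ⧸ Subgroup.centralizer ({sC} : Set C) :=
    Quotient.map' f fun a b hab => by
      rw [QuotientGroup.leftRel_apply] at hab ⊢
      rw [← map_inv]
      exact (hiff a b).2 hab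
  have hφ : Function.Bijective φ := by
    constructor
    · intro p q
      refine QuotientGroup.induction_on p fun a => QuotientGroup.induction_on q fun b h => ?_
      have h' : (QuotientGroup.mk (f a) : C ⧸ Subgroup.centralizer ({sC} : Set C)) = QuotientGroup.mk (f b) := h
      rw [QuotientGroup.eq, ← map_inv] at h'
      exact QuotientGroup.eq.2 ((hiff a b).1 h')
    · intro q
      refine QuotientGroup.induction_on q fun c => ?_
      obtain ⟨a, k, hk, hc⟩ := D.cent c (Subgroup.mem_centralizer_singleton_iff.1 c.2)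
      refine ⟨QuotientGroup.mk a, ?_⟩
      show (QuotientGroup.mk (f a) : C ⧸ Subgroup.centralizer ({sC} : Set C)) = QuotientGroup.mk c
      refine QuotientGroup.eq.2 (Subgroup.mem_centralizer_singleton_iff.2 (Subtype.ext ?_))
      show (ι a)⁻¹ * (c : G) * ι s = ι s * ((ι a)⁻¹ * (c : G))
      rw [hc, inv_mul_cancel_left]
      exact (D.comm hk s).eq.symm
  rw [Subgroup.index, ← Nat.card_congr (Equiv.ofBijective φ hφ)]
  exact D.facts.odd_index

/-- Conjugates of the central involution in its centraliser do not meet the class of `s`. -/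
theorem not_s : ¬ InX (ι s) := by
  intro h
  obtain ⟨g₀, hg₀⟩ := isConj_iff.1 h.symm
  let C := Subgroup.centralizer ({ι t} : Set G)
  set y := g₀ * ι t * g₀⁻¹ with hy
  have hyX : InX y := isConj_iff.2 ⟨g₀, rfl⟩
  have hyt : Commute y (ι t) := by
    have := (D.commute_t s).conj g₀
    rwa [hg₀] at this
  let yC : C := ⟨y, Subgroup.mem_centralizer_singleton_iff.2 hyt.eq⟩
  let tC : C := ⟨ι t, Subgroup.mem_centralizer_singleton_iff.2 rfl⟩
  let sC : C := ⟨ι s, Subgroup.mem_centralizer_singleton_iff.2 (D.commute_t s).symm.eq⟩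
  have hodd : ¬ 2 ∣ (Subgroup.centralizer ({yC} : Set C)).index := by
    have h1 : Nat.card (Subgroup.centralizer ({yC} : Set C)) = Nat.card (Subgroup.centralizer ({sC} : Set C)) := by
      let e : Subgroup.centralizer ({sC} : Set C) → Subgroup.centralizer ({yC} : Set C) := fun c =>
        ⟨⟨g₀ * c.1.1 * g₀⁻¹, Subgroup.mem_centralizer_singleton_iff.2 (by
            have h1 : Commute c.1.1 (ι s) := congrArg Subtype.val (Subgroup.mem_centralizer_singleton_iff.1 c.2)
            have := h1.conj g₀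
            rw [hg₀] at this
            exact this.eq)⟩,
          Subgroup.mem_centralizer_singleton_iff.2 (Subtype.ext (by
            have h1 : Commute c.1.1 (ι t) := Subgroup.mem_centralizer_singleton_iff.1 c.1.2
            exact (h1.conj g₀).eq))⟩
      refine (Nat.card_eq_of_bijective e ⟨fun a b hab => Subtype.ext (Subtype.ext ?_), fun c => ?_⟩).symm
      · have h1 : g₀ * a.1.1 * g₀⁻¹ = g₀ * b.1.1 * g₀⁻¹ := congrArg (fun z => z.1.1) hab
        exact mul_left_cancel (mul_right_cancel h1)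
      · have h1 : Commute c.1.1 y := congrArg Subtype.val (Subgroup.mem_centralizer_singleton_iff.1 c.2)
        have h2 : Commute c.1.1 (ι t) := Subgroup.mem_centralizer_singleton_iff.1 c.1.2
        have e1 : g₀⁻¹ * y * g₀⁻¹⁻¹ = ι t := by rw [hy]; group
        have e2 : g₀⁻¹ * ι t * g₀⁻¹⁻¹ = ι s := by rw [← hg₀]; group
        refine ⟨⟨⟨g₀⁻¹ * c.1.1 * g₀⁻¹⁻¹, Subgroup.mem_centralizer_singleton_iff.2 ?_⟩,
          Subgroup.mem_centralizer_singleton_iff.2 (Subtype.ext ?_)⟩, Subtype.ext (Subtype.ext ?_)⟩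
        · have := h1.conj g₀⁻¹
          rw [e1] at this
          exact this.eq
        · have := h2.conj g₀⁻¹
          rw [e2] at this
          exact this.eq
        · show g₀ * (g₀⁻¹ * c.1.1 * g₀⁻¹⁻¹) * g₀⁻¹ = c.1.1
          group
    have h2 := (Subgroup.centralizer ({yC} : Set C)).card_mul_index
    rw [← (Subgroup.centralizer ({sC} : Set C)).card_mul_index, h1] at h2
    rw [Nat.eq_of_mul_eq_mul_left Nat.card_pos h2]
    exact fun h3 => (Nat.not_even_iff_odd.2 D.odd_index_s) (even_iff_two_dvd.2 h3)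
  have htC : ∀ c : C, c * tC = tC * c := fun c =>
    Subtype.ext (Subgroup.mem_centralizer_singleton_iff.1 c.2)
  have hnf : yC * tC ≠ yC := fun e => D.tne (congrArg Subtype.val (mul_eq_left.1 e))
  -- the element carrying `s` to `t` and normalising the common centraliser
  obtain ⟨a, hya, ha⟩ : ∃ a : H, y = ι a ∧ (IsConj s a ∨ IsConj (t * s) a) := by
    rcases D.invol_cent hyt (D.x_sq hyX) with ⟨a, hya, ha2⟩ | ⟨a, k, hk, hyk, ha2, hk2⟩
    · have ha1 : a ≠ 1 := fun e => by
        rw [e, map_one] at hya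
        exact D.tne (conj_eq_one_iff.1 (hy ▸ hya))
      have hat : a ≠ t := fun e => by
        rw [e, hy] at hya
        have e3 : ι s = ι t := mul_left_cancel (mul_right_cancel (hg₀.trans hya.symm))
        exact D.facts.s_ne_t (D.inj e3)
      rcases D.cases_invol ha2 ha1 hat with hc | hc | hc
      · exact ⟨a, hya, Or.inl hc⟩
      · exact ⟨a, hya, Or.inr hc⟩
      · exfalso
        obtain ⟨c, hc'⟩ := isConj_iff.1 (D.facts.twelve _ _ hc (D.twelve_tmul hc))
        refine hodd (even_index htC (Subtype.ext D.tt) hnf (isConj_iff.2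
          ⟨⟨ι c, Subgroup.mem_centralizer_singleton_iff.2 (D.commute_t c).symm.eq⟩, Subtype.ext ?_⟩))
        show ι c * y * (ι c)⁻¹ = y * ι t
        rw [hya, D.conj_cent, hc', ← map_mul, D.tcomm]
    · exfalso
      obtain ⟨c, hc'⟩ := isConj_iff.1 (D.facts.four _ _ ha2 (D.four_tmul ha2))
      refine hodd (even_index htC (Subtype.ext D.tt) hnf (isConj_iff.2
        ⟨⟨ι c, Subgroup.mem_centralizer_singleton_iff.2 (D.commute_t c).symm.eq⟩, Subtype.ext ?_⟩))
      show ι c * y * (ι c)⁻¹ = y * ι t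
      rw [hyk, show ι c * (ι a * k) * (ι c)⁻¹ = ι c * ι a * (k * (ι c)⁻¹) by group,
        ← (D.comm hk c).inv_left.eq, show ι c * ι a * ((ι c)⁻¹ * k) = ι c * ι a * (ι c)⁻¹ * k by group,
        D.conj_cent, hc', mul_assoc (ι a), ← (D.comm hk t).eq, ← mul_assoc, ← map_mul, D.tcomm]
  obtain ⟨c, hc⟩ : ∃ c : H, c * a * c⁻¹ = s ∨ c * a * c⁻¹ = t * s := by
    rcases ha with h' | h'
    · obtain ⟨c, hc⟩ := isConj_iff.1 h'.symm; exact ⟨c, Or.inl hc⟩
    · obtain ⟨c, hc⟩ := isConj_iff.1 h'.symm; exact ⟨c, Or.inr hc⟩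
  let g := ι c * g₀
  have hgs : g * ι s * g⁻¹ = ι t := by
    rw [show g * ι s * g⁻¹ = ι c * (g₀ * ι s * g₀⁻¹) * (ι c)⁻¹ by simp only [g]; group, hg₀, D.conj_cent,
      ← D.tcomm c, mul_inv_cancel_right]
  have hgt : g * ι t * g⁻¹ = ι s ∨ g * ι t * g⁻¹ = ι t * ι s := by
    have e : g * ι t * g⁻¹ = ι (c * a * c⁻¹) := by
      rw [show g * ι t * g⁻¹ = ι c * y * (ι c)⁻¹ by simp only [g, hy]; group, hya, D.conj_cent]
    rcases hc with e' | e' <;> rw [e'] at e
    · exact Or.inl e
    · exact Or.inr (by rw [e, map_mul])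
  -- the common centraliser and its core
  let W : Subgroup G := Subgroup.centralizer ({ι t} : Set G) ⊓ Subgroup.centralizer ({ι s} : Set G)
  have hWmem : ∀ {w : G}, w ∈ W ↔ Commute w (ι t) ∧ Commute w (ι s) := fun {w} => by
    simp only [W, Subgroup.mem_inf, Subgroup.mem_centralizer_singleton_iff]
    exact Iff.rfl
  have hconj : ∀ w, w ∈ W → g * w * g⁻¹ ∈ W := by
    intro w hw
    obtain ⟨hwt, hws⟩ := hWmem.1 hw
    have h1 := hws.conj g
    rw [hgs] at h1
    refine hWmem.2 ⟨h1, ?_⟩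
    have h2 := hwt.conj g
    rcases hgt with e | e <;> rw [e] at h2
    · exact h2
    · have h3 := h1.mul_right h2
      rwa [← mul_assoc, D.tt, one_mul] at h3
  have hbij : Function.Bijective fun w : W => (⟨g * w * g⁻¹, hconj w w.2⟩ : W) :=
    Finite.injective_iff_bijective.1 fun a b hab => Subtype.ext (by
      have : g * (a : G) * g⁻¹ = g * b * g⁻¹ := congrArg Subtype.val hab
      exact mul_left_cancel (mul_right_cancel this))
  let eW : W ≃* W := MulEquiv.ofBijective
    ({ toFun := fun w => ⟨g * w * g⁻¹, hconj w w.2⟩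
       map_one' := Subtype.ext (by simp)
       map_mul' := fun a b => Subtype.ext (by simp [mul_assoc]) } : W →* W) hbij
  let Φ := Cfsg.pCore 2 W
  have hΦ : ∀ w ∈ Φ, eW w ∈ Φ := fun w hw =>
    (Cores.map_pCore_equiv (p := 2) eW).le (Subgroup.mem_map_of_mem eW.toMonoidHom hw)
  -- decomposition of the elements of the core
  let Cs := Subgroup.centralizer ({s} : Set H)
  have hdec : ∀ w : W, ∃ a : Cs, ∃ k ∈ Subgroup.centralizer (ι.range : Set G), (w : G) = ι (a : H) * k := by
    intro w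
    obtain ⟨hwt, hws⟩ := hWmem.1 w.2
    obtain ⟨b, k, hk, e⟩ := D.cent w hwt
    refine ⟨⟨b, Subgroup.mem_centralizer_singleton_iff.2 (D.inj ?_)⟩, k, hk, e⟩
    have hb : ι b = (w : G) * k⁻¹ := by rw [e, mul_inv_cancel_right]
    rw [map_mul, map_mul, hb]
    exact (hws.mul_left (D.comm hk s).symm.inv_left).eq
  have hp := Cores.isPGroup_pCore (G := W) 2
  let N : Subgroup Cs :=
    { carrier := {b | ∃ k ∈ Subgroup.centralizer (ι.range : Set G), ∃ w ∈ Φ, (w : G) = ι (b : H) * k}
      one_mem' := ⟨1, one_mem _, 1, one_mem _, by simp⟩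
      mul_mem' := by
        rintro b b' ⟨k, hk, w, hw, e⟩ ⟨k', hk', w', hw', e'⟩
        refine ⟨k * k', mul_mem hk hk', w * w', mul_mem hw hw', ?_⟩
        rw [Subgroup.coe_mul, e, e', (D.comm hk (b' : H)).symm.mul_mul_mul_comm, ← map_mul]
        rfl
      inv_mem' := by
        rintro b ⟨k, hk, w, hw, e⟩
        refine ⟨k⁻¹, inv_mem hk, w⁻¹, inv_mem hw, ?_⟩
        rw [Subgroup.coe_inv, e, mul_inv_rev, ← (D.comm hk (b : H)).inv_inv.eq]
        simp }
  haveI : N.Normal := ⟨by
    rintro b ⟨k, hk, w, hw, e⟩ c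
    have hcW : ι (c : H) ∈ W := hWmem.2 ⟨(D.commute_t _).symm,
      (show Commute (c : H) s from Subgroup.mem_centralizer_singleton_iff.1 c.2).map ι⟩
    refine ⟨k, hk, ⟨_, hcW⟩ * w * ⟨_, hcW⟩⁻¹, (inferInstance : Φ.Normal).conj_mem w hw _, ?_⟩
    show ι (c : H) * (w : G) * (ι (c : H))⁻¹ = ι ((c : H) * b * (c : H)⁻¹) * k
    rw [e, map_mul, map_mul, map_inv, show ι (c : H) * (ι (b : H) * k) * (ι (c : H))⁻¹ =
      ι (c : H) * ι (b : H) * (k * (ι (c : H))⁻¹) by group, ← (D.comm hk (c : H)).inv_left.eq]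
    group⟩
  have hN : IsPGroup 2 N := by
    rintro ⟨b, k, hk, w, hw, e⟩
    obtain ⟨m, hm⟩ := hp ⟨w, hw⟩
    have h1 : ((w : G)) ^ (2 ^ m) = 1 := congrArg (fun z : Φ => ((z : W) : G)) hm
    rw [e, (D.comm hk (b : H)).mul_pow, ← map_pow] at h1
    have h2 : (b : H) ^ (2 ^ m) = 1 ∨ (b : H) ^ (2 ^ m) = t :=
      D.meet (by rw [eq_inv_of_mul_eq_one_left h1]; exact inv_mem (pow_mem hk _))
    refine ⟨m + 1, Subtype.ext (Subtype.ext ?_)⟩
    show (b : H) ^ (2 ^ (m + 1)) = 1
    rw [pow_succ, pow_mul]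
    rcases h2 with h2 | h2 <;> rw [h2]
    · exact one_pow 2
    · rw [pow_two, D.facts.t2]
  haveI : Finite H := Finite.of_injective ι D.inj
  have hNle : N ≤ Cfsg.pCore 2 Cs := Cores.le_pCore hN
  have hKsub : IsPGroup 2 ((Φ.map W.subtype).subgroupOf (Subgroup.centralizer (ι.range : Set G))) := by
    intro z
    obtain ⟨w, hw, e⟩ := Subgroup.mem_subgroupOf.1 z.2
    obtain ⟨m, hm⟩ := hp ⟨w, hw⟩
    refine ⟨m, Subtype.ext (Subtype.ext ?_)⟩
    show ((z : Subgroup.centralizer (ι.range : Set G)) : G) ^ (2 ^ m) = 1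
    rw [← e]
    exact congrArg (fun z : Φ => ((z : W) : G)) hm
  let j : Cs →* W := (ι.comp Cs.subtype).codRestrict W fun c => hWmem.2 ⟨(D.commute_t _).symm,
    (show Commute (c : H) s from Subgroup.mem_centralizer_singleton_iff.1 c.2).map ι⟩
  haveI : ((Cfsg.pCore 2 Cs).map j).Normal := ⟨by
    rintro _ ⟨c, hc, rfl⟩ v
    obtain ⟨b, l, hl, ev⟩ := hdec v
    refine ⟨b * c * b⁻¹, (inferInstance : (Cfsg.pCore 2 Cs).Normal).conj_mem c hc b, Subtype.ext ?_⟩
    show ι ((b : H) * c * (b : H)⁻¹) = (v : G) * ι (c : H) * (v : G)⁻¹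
    rw [ev, map_mul, map_mul, map_inv,
      show ι (b : H) * l * ι (c : H) * (ι (b : H) * l)⁻¹ =
        ι (b : H) * (l * ι (c : H) * l⁻¹) * (ι (b : H))⁻¹ by group, ← (D.comm hl (c : H)).eq,
      mul_inv_cancel_right]⟩
  have hjp : IsPGroup 2 ((Cfsg.pCore 2 Cs).map j) := (Cores.isPGroup_pCore 2).map j
  have hcomm : ∀ u ∈ Φ, ∀ v ∈ Φ, (u : G) * v * (u : G)⁻¹ * (v : G)⁻¹ = 1 ∨
      (u : G) * v * (u : G)⁻¹ * (v : G)⁻¹ = ι s := by
    intro u hu v hv
    obtain ⟨a, k, hk, eu⟩ := hdec u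
    obtain ⟨b, l, hl, ev⟩ := hdec v
    have hsub : ∀ (w : W), w ∈ Φ → ∀ (a : Cs) (k : G), k ∈ Subgroup.centralizer (ι.range : Set G) →
        (w : G) = ι (a : H) * k → k ∈ Φ.map W.subtype := by
      intro w hw a k hk e
      have ha : ι (a : H) ∈ Φ.map W.subtype := by
        have haN : a ∈ Cfsg.pCore 2 Cs := hNle ⟨k, hk, w, hw, e⟩
        exact ⟨j a, Cores.le_pCore hjp (Subgroup.mem_map_of_mem j haN), rfl⟩
      have : k = (ι (a : H))⁻¹ * (w : G) := by rw [e]; group
      rw [this]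
      exact mul_mem (inv_mem ha) ⟨w, hw, rfl⟩
    have hkl : Commute k l := congrArg Subtype.val (D.commute_two hKsub (x := ⟨k, hk⟩) (y := ⟨l, hl⟩)
      (Subgroup.mem_subgroupOf.2 (hsub u hu a k hk eu)) (Subgroup.mem_subgroupOf.2 (hsub v hv b l hl ev))).eq
    rw [eu, ev, show ι (a : H) * k * (ι (b : H) * l) * (ι (a : H) * k)⁻¹ * (ι (b : H) * l)⁻¹ =
      ι (a : H) * (k * ι (b : H)) * (l * k⁻¹) * ((ι (a : H))⁻¹ * l⁻¹) * (ι (b : H))⁻¹ by group,
      ← (D.comm hk (b : H)).eq, hkl.symm.inv_right.eq, (D.comm hl (a : H)).inv_inv.eq,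
      show ι (a : H) * (ι (b : H) * k) * (k⁻¹ * l) * (l⁻¹ * (ι (a : H))⁻¹) * (ι (b : H))⁻¹ =
        ι (a : H) * ι (b : H) * (ι (a : H))⁻¹ * (ι (b : H))⁻¹ by group, ← map_inv, ← map_inv, ← map_mul, ← map_mul,
      ← map_mul]
    rcases D.facts.core_comm a (hNle ⟨k, hk, u, hu, eu⟩) b (hNle ⟨l, hl, v, hv, ev⟩) with e | e <;> rw [e]
    · exact Or.inl (map_one ι)
    · exact Or.inr rfl
  obtain ⟨x, hx, y', hy', hxy⟩ := D.facts.core_nonab
  have hxΦ : j x ∈ Φ := Cores.le_pCore hjp (Subgroup.mem_map_of_mem j hx)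
  have hyΦ : j y' ∈ Φ := Cores.le_pCore hjp (Subgroup.mem_map_of_mem j hy')
  have e1 : (eW (j x) : G) * eW (j y') * (eW (j x) : G)⁻¹ * (eW (j y') : G)⁻¹ = ι t := by
    show g * ι (x : H) * g⁻¹ * (g * ι (y' : H) * g⁻¹) * (g * ι (x : H) * g⁻¹)⁻¹ * (g * ι (y' : H) * g⁻¹)⁻¹ = ι t
    rw [show g * ι (x : H) * g⁻¹ * (g * ι (y' : H) * g⁻¹) * (g * ι (x : H) * g⁻¹)⁻¹ * (g * ι (y' : H) * g⁻¹)⁻¹ =
      g * (ι (x : H) * ι (y' : H) * (ι (x : H))⁻¹ * (ι (y' : H))⁻¹) * g⁻¹ by group, ← map_inv, ← map_inv, ← map_mul,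
      ← map_mul, ← map_mul, hxy, hgs]
  rcases hcomm _ (hΦ _ hxΦ) _ (hΦ _ hyΦ) with e | e <;> rw [e1] at e
  · exact D.tne e
  · exact D.facts.s_ne_t (D.inj e).symm

omit [Finite G] in
theorem root_tmul {a : H} (ha : a * a = t) {k : G} (hk : k ∈ Subgroup.centralizer (ι.range : Set G)) :
    IsConj (ι a * k) (ι a * k * ι t) := by
  have h := D.conj_mul (D.facts.four a (t * a) ha (D.four_tmul ha)) hk
  rwa [show ι (t * a) * k = ι a * k * ι t by
    rw [D.tcomm, map_mul, mul_assoc, mul_assoc, (D.comm hk t).eq]] at h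

/-- When the class avoids `t * s` it is closed under products of commuting distinct elements. -/
theorem closed_of_not_ts (hts : ¬ InX (ι (t * s))) {a b : G} (ha : InX a) (hb : InX b) (hab : Commute a b)
    (hne : a ≠ b) : InX (a * b) := by
  obtain ⟨g, hg⟩ := isConj_iff.1 ha.symm
  set y := g * b * g⁻¹ with hy
  have hyX : InX y := hb.trans (isConj_iff.2 ⟨g, rfl⟩)
  have hyt : Commute y (ι t) := by
    have := hab.symm.conj g
    rwa [hg] at this
  have hyne : y ≠ ι t := fun e => hne (mul_left_cancel (mul_right_cancel (hg.trans e.symm)))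
  suffices h : InX (ι t * y) by
    refine h.trans (isConj_iff.2 ⟨g⁻¹, ?_⟩)
    rw [hy, ← hg]
    group
  rcases D.invol_cent hyt (D.x_sq hyX) with ⟨c, e, h2⟩ | ⟨c, k, hk, e, h2, -⟩
  · rcases D.cases_invol h2 (fun h => D.tne (by
        rw [h, map_one] at e
        exact isConj_one_right.1 (e ▸ hyX).symm)) (fun h => hyne (by rw [e, h])) with h | h | h
    · exact absurd ((e ▸ hyX).trans (ι.map_isConj h).symm) D.not_s
    · exact absurd ((e ▸ hyX).trans (ι.map_isConj h).symm) hts
    · rw [e, ← map_mul]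
      exact (e ▸ hyX).trans (ι.map_isConj (D.facts.twelve _ _ h (D.twelve_tmul h)))
  · rw [show ι t * y = y * ι t from hyt.eq.symm, e]
    exact (e ▸ hyX).trans (D.root_tmul h2 hk)

/-- When the class avoids `t * s` it avoids the third class. -/
theorem not_twelve (hts : ¬ InX (ι (t * s))) {a : H} (ha : IsTwelve t s a) : ¬ InX (ι a) := by
  intro h
  obtain ⟨d₁, d₂, h1, h2, hc, hp⟩ := D.facts.dodecads
  have hne : ι d₁ ≠ ι d₂ := fun e => by
    rw [← D.inj e, h1.1] at hp
    rcases hp with hp | hp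
    · exact D.facts.s_ne (isConj_one_left.1 hp)
    · have := isConj_one_left.1 hp
      exact D.facts.s_ne_t (by rw [← D.tmul_cancel s, this, mul_one])
  have hX := D.closed_of_not_ts hts (h.trans (ι.map_isConj (D.facts.twelve _ _ ha h1)))
    (h.trans (ι.map_isConj (D.facts.twelve _ _ ha h2))) (hc.map ι) hne
  rw [← map_mul] at hX
  rcases hp with hp | hp
  · exact D.not_s (hX.trans (ι.map_isConj hp).symm)
  · exact hts (hX.trans (ι.map_isConj hp).symm)

/-- When the class avoids `t * s` it avoids the roots of `t` times the centraliser. -/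
theorem not_root (hts : ¬ InX (ι (t * s))) {a : H} (ha : a * a = t) {k : G}
    (hk : k ∈ Subgroup.centralizer (ι.range : Set G)) (hk2 : k * k = ι t) : ¬ InX (ι a * k) := by
  intro h
  obtain ⟨a₀, b₀, h1, h2, hc, hne, hnet⟩ := D.facts.fours
  have hX := D.closed_of_not_ts hts (h.trans (D.conj_mul (D.facts.four _ _ ha h1) hk))
    (h.trans (D.conj_mul (D.facts.four _ _ ha h2) hk))
    (((hc.map ι).mul_right (D.comm hk a₀)).mul_left ((D.comm hk b₀).symm.mul_right (Commute.refl k)))
    (fun e => hne (D.inj (mul_right_cancel e)).symm)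
  rw [(D.comm hk b₀).symm.mul_mul_mul_comm, hk2, ← map_mul, ← map_mul] at hX
  have hsq : a₀ * b₀ * (a₀ * b₀) = 1 := by rw [hc.symm.mul_mul_mul_comm, h1, h2, D.facts.t2]
  have hw2 : a₀ * b₀ * t * (a₀ * b₀ * t) = 1 := by
    rw [(show Commute t (a₀ * b₀) from D.tcomm _).mul_mul_mul_comm, hsq, D.facts.t2, mul_one]
  have hw1 : a₀ * b₀ * t ≠ 1 := fun e => D.tne (isConj_one_right.1 (by
    rw [e, map_one] at hX; exact hX.symm))
  have hwt : a₀ * b₀ * t ≠ t := fun e => hnet (by
    have h' : a₀ * b₀ = 1 := mul_eq_right.1 e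
    rw [eq_inv_of_mul_eq_one_right h']
    exact inv_eq_of_mul_eq_one_right (by rw [← mul_assoc, ← D.tcomm a₀, mul_assoc, h1, D.facts.t2]))
  rcases D.cases_invol hw2 hw1 hwt with e | e | e
  · exact D.not_s (hX.trans (ι.map_isConj e).symm)
  · exact hts (hX.trans (ι.map_isConj e).symm)
  · exact D.not_twelve hts e hX

/-- The class avoids `t * s`. -/
theorem not_ts : ¬ InX (ι (t * s)) := by
  intro h
  obtain ⟨o₁, o₂, h1, h2, h12, hc⟩ := D.facts.octads
  have hXo : ∀ {o : H}, IsConj (t * s) o → InX (ι o) := fun e => h.trans (ι.map_isConj e)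
  have hnot : ∀ {o : H}, IsConj (t * s) o → ∀ g : G, ¬ InX (g * (ι t * ι o) * g⁻¹) := fun {o} e g hX => by
    have e1 : IsConj (g * (ι t * ι o) * g⁻¹) (ι t * ι o) := isConj_iff.2 ⟨g⁻¹, by group⟩
    refine D.not_s ((hX.trans e1).trans ?_)
    rw [← map_mul]
    have := D.isConj_tmul e
    rw [D.tmul_cancel] at this
    exact (ι.map_isConj this).symm
  obtain ⟨g, hg⟩ := isConj_iff.1 (hXo h1).symm
  set u := g * ι t * g⁻¹ with hu
  set y := g * ι o₂ * g⁻¹ with hy
  have hut : Commute u (ι t) := by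
    have := (D.commute_t o₁).conj g
    rwa [hg] at this
  have hyt : Commute y (ι t) := by
    have := (hc.symm.map ι).conj g
    rwa [hg] at this
  have huy : Commute u y := (D.commute_t o₂).conj g
  have huX : InX u := isConj_iff.2 ⟨g, rfl⟩
  have hyX : InX y := (hXo h2).trans (isConj_iff.2 ⟨g, rfl⟩)
  have hut' : ¬ InX (u * ι t) := by
    have e1 : u * ι t = u * (g * ι o₁ * g⁻¹) := by rw [hg]
    rw [e1, hu, show g * ι t * g⁻¹ * (g * ι o₁ * g⁻¹) = g * (ι t * ι o₁) * g⁻¹ by group]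
    exact hnot h1 g
  have huy' : ¬ InX (u * y) := by
    rw [hu, hy, show g * ι t * g⁻¹ * (g * ι o₂ * g⁻¹) = g * (ι t * ι o₂) * g⁻¹ by group]
    exact hnot h2 g
  have huyt : ¬ InX (u * y * ι t) := by
    have e1 : u * y * ι t = u * y * (g * ι o₁ * g⁻¹) := by rw [hg]
    rw [e1, hu, hy, show g * ι t * g⁻¹ * (g * ι o₂ * g⁻¹) * (g * ι o₁ * g⁻¹) =
      g * (ι t * (ι o₂ * ι o₁)) * g⁻¹ by group, ← (hc.map ι).eq, ← map_mul ι o₁]
    exact hnot h12 g
  have hyt' : InX (y * ι t) := by
    have e1 : y * ι t = y * (g * ι o₁ * g⁻¹) := by rw [hg]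
    rw [e1, hy, show g * ι o₂ * g⁻¹ * (g * ι o₁ * g⁻¹) = g * (ι o₂ * ι o₁) * g⁻¹ by group,
      ← (hc.map ι).eq, ← map_mul]
    exact (hXo h12).trans (isConj_iff.2 ⟨g, rfl⟩)
  have hune : u ≠ ι t := fun e => huy' (by
    rw [e, (show ι t * y = y * ι t from hyt.eq.symm)]
    exact hyt')
  have hyne : y ≠ ι t := fun e => D.tne (isConj_one_right.1 (by
    rw [e, D.tt] at hyt'; exact hyt'.symm))
  obtain ⟨a, hua, ha⟩ : ∃ a, u = ι a ∧ IsConj (t * s) a := by
    rcases D.invol_cent hut (D.x_sq huX) with ⟨a, e, h2⟩ | ⟨a, k, hk, e, h2, -⟩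
    · rcases D.cases_invol h2 (fun h' => D.tne (by
          rw [h', map_one] at e
          exact isConj_one_right.1 (e ▸ huX).symm)) (fun h' => hune (by rw [e, h'])) with h' | h' | h'
      · exact absurd ((e ▸ huX).trans (ι.map_isConj h').symm) D.not_s
      · exact ⟨a, e, h'⟩
      · exfalso
        refine hut' ?_
        rw [e, ← map_mul, ← D.tcomm]
        exact (e ▸ huX).trans (ι.map_isConj (D.facts.twelve _ _ h' (D.twelve_tmul h')))
    · exfalso
      exact hut' (e ▸ (e ▸ huX).trans (D.root_tmul h2 hk))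
  rcases D.invol_cent hyt (D.x_sq hyX) with ⟨b, e, hb2⟩ | ⟨b, k, hk, e, hb2, -⟩
  · have hb1 : b ≠ 1 := fun h' => D.tne (by
      rw [h', map_one] at e
      exact isConj_one_right.1 (e ▸ hyX).symm)
    have hbt : b ≠ t := fun h' => hyne (by rw [e, h'])
    rcases D.cases_invol hb2 hb1 hbt with hb | hb | hb
    · exact D.not_s ((e ▸ hyX).trans (ι.map_isConj hb).symm)
    · refine D.not_s (hyt'.trans ?_)
      rw [e, ← map_mul, ← D.tcomm]
      have := D.isConj_tmul hb
      rw [D.tmul_cancel] at this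
      exact (ι.map_isConj this).symm
    · have hab : Commute a b := D.inj (by rw [map_mul, map_mul, ← hua, ← e]; exact huy.eq)
      have hw2 : a * b * (a * b) = 1 := by
        rw [hab.symm.mul_mul_mul_comm, hb2, mul_one]
        exact D.inj (by rw [map_mul, ← hua, map_one]; exact D.x_sq huX)
      have hw1 : a * b ≠ 1 := fun h' => by
        have : a = b⁻¹ := eq_inv_of_mul_eq_one_left h'
        rw [inv_eq_of_mul_eq_one_right hb2] at this
        exact hb.2.2.2.2 (this ▸ ha)
      have hwt : a * b ≠ t := fun h' => by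
        have : a = t * b := by rw [← h', mul_assoc, hb2, mul_one]
        exact (D.twelve_tmul hb).2.2.2.2 (this ▸ ha)
      rw [hua, e, ← map_mul] at huy'
      rw [hua, e, ← map_mul, ← map_mul, ← D.tcomm] at huyt
      rcases D.cases_invol hw2 hw1 hwt with hw | hw | hw
      · exact huyt (h.trans (ι.map_isConj (D.isConj_tmul hw)))
      · exact huy' (h.trans (ι.map_isConj hw))
      · exact huy' ((e ▸ hyX).trans (ι.map_isConj (D.facts.twelve _ _ hb hw)))
  · have hab : Commute a b := D.inj (by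
      have h' : ι a * (ι b * k) = ι b * k * ι a := by rw [← hua, ← e]; exact huy.eq
      rw [mul_assoc (ι b) k, ← (D.comm hk a).eq, ← mul_assoc, ← mul_assoc] at h'
      rw [map_mul, map_mul]
      exact mul_right_cancel h')
    have hw : a * b * (a * b) = t := by
      rw [hab.symm.mul_mul_mul_comm, hb2]
      rw [show a * a = 1 from D.inj (by rw [map_mul, ← hua, map_one]; exact D.x_sq huX), one_mul]
    refine huy' ?_
    rw [hua, e, ← mul_assoc, ← map_mul]
    exact (e ▸ hyX).trans (D.conj_mul (D.facts.four _ _ hb2 hw) hk)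

/-- The central involution is isolated. -/
theorem isolated : Cfsg.IsIsolatedInvolution (ι t) := by
  refine ⟨orderOf_eq_prime (hp := ⟨Nat.prime_two⟩) (by rw [pow_two, D.tt]) D.tne, fun g hg => ?_⟩
  by_contra hne
  have hX : InX (g * ι t * g⁻¹) := isConj_iff.2 ⟨g, rfl⟩
  rcases D.invol_cent hg.symm (D.x_sq hX) with ⟨a, e, h2⟩ | ⟨a, k, hk, e, h2, hk2⟩
  · rcases D.cases_invol h2 (fun h => D.tne (conj_eq_one_iff.1 (e.trans (by rw [h, map_one]))))
      (fun h => hne (by rw [e, h])) with h | h | h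
    · exact D.not_s ((e ▸ hX).trans (ι.map_isConj h).symm)
    · exact D.not_ts ((e ▸ hX).trans (ι.map_isConj h).symm)
    · exact D.not_twelve D.not_ts h (e ▸ hX)
  · exact D.not_root D.not_ts h2 hk hk2 (e ▸ hX)

end Setting

end CfsgLib.CoNoughtStd
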