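import Cfsg.Agent.Lib.CoNoughtStd.Fusion
import Cfsg.Agent.Lib.Rigid.Co1Out
import Cfsg.Prelude.Def_Spor_Conway

/-!
# A standard subgroup isomorphic to the automorphism group of the Leech lattice is normal
-/

set_option autoImplicit false

namespace CfsgLib.CoNoughtStd

/-- A perfect group has only inner automorphisms when its quotient by the centre has. -/
theorem aut_inner {H : Type*} [Group H] (hp : Group.IsPerfect H)
    (hout : Nat.card (Cfsg.Out (H ⧸ Subgroup.center H)) = 1) (φ : MulAut H) : ∃ a, ∀ h, φ h = a * h * a⁻¹ := by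
  have hZ : (Subgroup.center H).map (φ : H →* H) = Subgroup.center H := by
    ext z
    simp only [Subgroup.mem_map, Subgroup.mem_center_iff]
    constructor
    · rintro ⟨y, hy, rfl⟩ g
      show g * φ y = φ y * g
      rw [← φ.apply_symm_apply g, ← map_mul, hy, map_mul]
    · intro hz
      exact ⟨φ.symm z, fun g => φ.injective (by simp [map_mul, hz]), φ.apply_symm_apply z⟩
  let φb : MulAut (H ⧸ Subgroup.center H) := QuotientGroup.congr _ _ φ hZ
  haveI := (Nat.card_eq_one_iff_unique.1 hout).1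
  have hinn : φb ∈ Cfsg.Inn (H ⧸ Subgroup.center H) :=
    (QuotientGroup.eq_one_iff φb).1 (Subsingleton.elim _ _)
  obtain ⟨q, hq⟩ := hinn
  obtain ⟨a, rfl⟩ := QuotientGroup.mk_surjective q
  refine ⟨a, ?_⟩
  have hmem : ∀ h, (a * h * a⁻¹)⁻¹ * φ h ∈ Subgroup.center H := fun h => by
    refine QuotientGroup.eq.1 ?_
    exact DFunLike.congr_fun hq (QuotientGroup.mk h : H ⧸ Subgroup.center H)
  let δ : H →* Subgroup.center H :=
    { toFun := fun h => ⟨_, hmem h⟩
      map_one' := Subtype.ext (by simp)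
      map_mul' := fun u v => Subtype.ext (by
        show (a * (u * v) * a⁻¹)⁻¹ * φ (u * v) = (a * u * a⁻¹)⁻¹ * φ u * ((a * v * a⁻¹)⁻¹ * φ v)
        have hc := Subgroup.mem_center_iff.1 (hmem u) ((a * v * a⁻¹)⁻¹)
        rw [map_mul, show (a * (u * v) * a⁻¹)⁻¹ * (φ u * φ v) =
          (a * v * a⁻¹)⁻¹ * ((a * u * a⁻¹)⁻¹ * φ u) * φ v by group, hc]
        group) }
  intro h
  have hker : commutator H ≤ δ.ker := by
    rw [commutator_def, Subgroup.commutator_le]
    intro u _ v _
    rw [MonoidHom.mem_ker, commutatorElement_def, map_mul, map_mul, map_mul, map_inv, map_inv]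
    have hc : δ u * δ v = δ v * δ u :=
      Subtype.ext ((Subgroup.mem_center_iff.1 (δ v).2) (δ u : H))
    rw [hc]
    group
  have hh : h ∈ δ.ker := hker (by rw [hp.commutator_eq_top]; exact Subgroup.mem_top h)
  exact (inv_mul_eq_one.1 (congrArg Subtype.val hh :)).symm

/-- A standard subgroup isomorphic to the double cover of the first Conway group is normal. -/
theorem normal_of_facts {G : Type*} [Group G] [Finite G] (hO : Cfsg.oddCore G = ⊥) (A : Subgroup G)
    (hA : Cfsg.IsStandardSubgroup A) (e : ↥A ≃* ↥Cfsg.Co0) {t s : ↥Cfsg.Co0} (F : Facts t s)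
    (hR : ∀ R : Sylow 2 ↥(Subgroup.centralizer (A : Set G)),
      IsCyclic ↥(R : Subgroup ↥(Subgroup.centralizer (A : Set G)))) : A.Normal := by
  obtain ⟨hqs, ⟨-, hodd⟩, -, hnorm⟩ := hA
  have hp : Group.IsPerfect ↥Cfsg.Co0 := by
    refine ⟨?_⟩
    have h := congrArg (Subgroup.map e.toMonoidHom) hqs.1.commutator_eq_top
    rwa [commutator_def, Subgroup.map_commutator, Subgroup.map_top_of_surjective _ e.surjective] at h
  let ι : ↥Cfsg.Co0 →* G := A.subtype.comp e.symm.toMonoidHom
  have hinj : Function.Injective ι := A.subtype_injective.comp e.symm.injective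
  have hιA : ι.range = A := by
    rw [MonoidHom.range_comp, MonoidHom.range_eq_top.2 e.symm.surjective, ← MonoidHom.range_eq_map,
      Subgroup.range_subtype]
  have hιe : ∀ a : A, ι (e a) = a := fun a => congrArg Subtype.val (e.symm_apply_apply a)
  have htt : ι t * ι t = 1 := by rw [← map_mul, F.t2, map_one]
  have htne : ι t ≠ 1 := fun h => F.t_ne (hinj (h.trans (map_one ι).symm))
  have htK : ι t ∈ Subgroup.centralizer (A : Set G) := Subgroup.mem_centralizer_iff.2 fun x hx => by
    have h : Commute (e ⟨x, hx⟩) t := Subgroup.mem_center_iff.1 F.t_central _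
    have h' := (h.map ι).eq
    rwa [hιe] at h'
  have hcent : ∀ g : G, Commute g (ι t) →
      ∃ a, ∃ k ∈ Subgroup.centralizer (ι.range : Set G), g = ι a * k := by
    intro g hg
    have hgN : g ∈ Subgroup.normalizer (A : Set G) := by
      rw [hnorm]
      by_contra hgn
      have h := hodd g hgn
      have hmem : ι t ∈ Subgroup.centralizer (A : Set G) ⊓
          (Subgroup.centralizer (A : Set G)).map (MulAut.conj g).toMonoidHom :=
        ⟨htK, ι t, htK, show g * ι t * g⁻¹ = ι t by rw [hg.eq, mul_inv_cancel_right]⟩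
      have h2 : orderOf (⟨ι t, hmem⟩ : ↥(Subgroup.centralizer (A : Set G) ⊓
          (Subgroup.centralizer (A : Set G)).map (MulAut.conj g).toMonoidHom)) = 2 :=
        orderOf_eq_prime (hp := ⟨Nat.prime_two⟩) (by rw [pow_two]; exact Subtype.ext htt) fun h' =>
          htne (congrArg Subtype.val h')
      exact (Nat.not_even_iff_odd.2 h) (even_iff_two_dvd.2 (h2 ▸ orderOf_dvd_natCard _))
    have hN := Subgroup.mem_normalizer_iff.1 hgN
    let c : MulAut A :=
      { toFun := fun x => ⟨g * x * g⁻¹, (hN x).1 x.2⟩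
        invFun := fun x => ⟨g⁻¹ * x * g, (hN _).2 (by
          rw [show g * (g⁻¹ * (x : G) * g) * g⁻¹ = x by group]; exact x.2)⟩
        left_inv := fun x => Subtype.ext (by simp [mul_assoc])
        right_inv := fun x => Subtype.ext (by simp [mul_assoc])
        map_mul' := fun x y => Subtype.ext (by simp [mul_assoc]) }
    obtain ⟨a, ha⟩ := aut_inner hp Rigid.Co1.card_out ((e.symm.trans c).trans e)
    refine ⟨a, (ι a)⁻¹ * g, Subgroup.mem_centralizer_iff.2 ?_, by group⟩
    rintro _ ⟨b, rfl⟩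
    have h1 : g * ι b * g⁻¹ = ι a * ι b * (ι a)⁻¹ := by
      rw [← map_mul, ← map_inv, ← map_mul, ← ha b]
      exact (hιe (c (e.symm b))).symm
    calc ι b * ((ι a)⁻¹ * g) = (ι a)⁻¹ * (ι a * ι b * (ι a)⁻¹) * g := by group
      _ = _ := by rw [← h1]; group
  have D : Setting ι t s := ⟨hinj, F, hcent, by rw [hιA]; exact hR⟩
  have hcen := Invol.zstar_center D.isolated hO
  refine ⟨fun x hx g => ?_⟩
  obtain ⟨a, k, hk, rfl⟩ := hcent g (Subgroup.mem_center_iff.1 hcen g)
  rw [← hιA] at hx ⊢
  obtain ⟨b, rfl⟩ := hx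
  refine ⟨a * b * a⁻¹, ?_⟩
  rw [map_mul, map_mul, map_inv, show ι a * k * ι b * (ι a * k)⁻¹ = ι a * (k * ι b * k⁻¹) * (ι a)⁻¹ by group,
    ← Subgroup.mem_centralizer_iff.1 hk _ ⟨b, rfl⟩, mul_inv_cancel_right]

end CfsgLib.CoNoughtStd
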