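import Cfsg.Agent.Lib.Leech.CoOne.Main
import Cfsg.Agent.Lib.CoType.Hyp
import Cfsg.Agent.Lib.Golay.Dodecad
import Cfsg.Agent.Lib.CoNoughtStd.Facts

/-!
# The double cover of the first Conway group satisfies the facts
-/

set_option autoImplicit false
set_option maxRecDepth 100000
set_option linter.style.haveILetI false

namespace CfsgLib.CoNoughtStd

open Cfsg CfsgLib.Golay CfsgLib.Leech CfsgLib.Leech.CoTwo CfsgLib.Leech.CoOne

open scoped Pointwise symmDiff

/-- The full mask. -/
def fullM : ℕ := 16777215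

/-- A word as a code set. -/
theorem codeOf {n : ℕ} (h : inCode n = true) : CodeSet (toSet n) :=
  mem_supports.2 ⟨n, mem_golayList_of_inCode h, rfl⟩

/-- The sign change on a word. -/
def eM (n : ℕ) (h : inCode n = true) : Co0 := monoAut 1 (one_mem M24) (toSet n) (codeOf h)

/-- The inversion of the line with a sign change. -/
noncomputable def fM (n : ℕ) (h : inCode n = true) : Co0 :=
  monoAut (permOf ptEquiv projL) projInv_mem (toSet n) (codeOf h)

theorem proj_ok : validL 24 projL = true ∧ compL projL projL = List.range 24 ∧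
    validL 24 (List.range 24) = true := by
  decide +kernel

theorem proj_sq : permOf ptEquiv projL * permOf ptEquiv projL = 1 := by
  rw [← permOf_comp ptEquiv proj_ok.1 proj_ok.1 (by rw [proj_ok.2.1]; exact proj_ok.2.2), proj_ok.2.1,
    permOf_id ptEquiv proj_ok.2.2]

theorem eM_congr {n m : ℕ} {hn : inCode n = true} {hm : inCode m = true} (e : n = m) :
    eM n hn = eM m hm := by
  subst e; rfl

theorem eM_zero (h : inCode 0 = true) : eM 0 h = 1 := by
  rw [eM, ← monoAut_one]
  exact monoAut_congr rfl (by ext p; simp [mem_toSet])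

theorem eM_full (h : inCode fullM = true) : eM fullM h = negAut := by
  refine co_ext fun v => Subtype.ext (funext fun i => ?_)
  have hfull : i ∈ toSet fullM := by revert i; decide +kernel
  rw [eM, coe_monoAut_smul, coe_negAut_smul, Pi.neg_apply]
  simp [signedPerm, hfull, Equiv.Perm.one_def]

theorem eM_mul {a b c : ℕ} (ha : inCode a = true) (hb : inCode b = true) (hc : inCode c = true)
    (e : a ^^^ b = c) : eM a ha * eM b hb = eM c hc := by
  rw [eM, eM, monoAut_mul]
  exact monoAut_congr (mul_one 1) (by rw [one_smul, ← toSet_xor, e])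

theorem eM_sq {a : ℕ} (ha : inCode a = true) : eM a ha * eM a ha = 1 :=
  (eM_mul ha ha (show inCode 0 = true by decide +kernel) (Nat.xor_self a)).trans (eM_zero _)

theorem eM_comm {a b : ℕ} (ha : inCode a = true) (hb : inCode b = true) :
    eM a ha * eM b hb = eM b hb * eM a ha := by
  rw [eM, eM, monoAut_mul, monoAut_mul]
  exact monoAut_congr rfl (by rw [one_smul, one_smul, symmDiff_comm])

theorem eM_inj {a b : ℕ} {ha : inCode a = true} {hb : inCode b = true} (la : a < 2 ^ 24) (lb : b < 2 ^ 24)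
    (e : eM a ha = eM b hb) : a = b :=
  toSet_inj la lb (monoAut_injective e).2

theorem fM_mul {a b c : ℕ} (ha : inCode a = true) (hb : inCode b = true) (hc : inCode c = true)
    (e : a ^^^ imgMask projL b = c) : fM a ha * fM b hb = eM c hc := by
  rw [fM, fM, monoAut_mul]
  exact monoAut_congr proj_sq (by rw [smul_toSet proj_ok.1, ← toSet_xor, e])

theorem eM_mul_fM {a b c : ℕ} (ha : inCode a = true) (hb : inCode b = true) (hc : inCode c = true)
    (e : a ^^^ b = c) : eM a ha * fM b hb = fM c hc := by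
  rw [fM, fM, eM, monoAut_mul]
  exact monoAut_congr (one_mul _) (by rw [one_smul, ← toSet_xor, e])

theorem fM_mul_eM {a b c : ℕ} (ha : inCode a = true) (hb : inCode b = true) (hc : inCode c = true)
    (e : a ^^^ imgMask projL b = c) : fM a ha * eM b hb = fM c hc := by
  rw [fM, fM, eM, monoAut_mul]
  exact monoAut_congr (mul_one _) (by rw [smul_toSet proj_ok.1, ← toSet_xor, e])

theorem fM_inj {a b : ℕ} {ha : inCode a = true} {hb : inCode b = true} (la : a < 2 ^ 24) (lb : b < 2 ^ 24)
    (e : fM a ha = fM b hb) : a = b :=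
  toSet_inj la lb (monoAut_injective e).2

theorem conj_eM {σ : Equiv.Perm GolayPt} (hσ : σ ∈ M24) {a b : ℕ} (ha : inCode a = true) (hb : inCode b = true)
    (e : σ • toSet a = toSet b) : IsConj (eM a ha) (eM b hb) := by
  refine isConj_iff.2 ⟨monoAut σ hσ ∅ codeSet_empty, mul_inv_eq_iff_eq_mul.2 ?_⟩
  rw [eM, eM, monoAut_mul, monoAut_mul]
  refine monoAut_congr ((mul_one σ).trans (one_mul σ).symm) ?_
  rw [e, ← Finset.bot_eq_empty, bot_symmDiff, one_smul, symmDiff_bot]

theorem words_ok : inCode octMask = true ∧ inCode fullM = true ∧ inCode baseDodecad = true ∧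
    inCode baseOctad = true ∧ inCode outMask = true := by
  decide +kernel

theorem eM_out : eM outMask words_ok.2.2.2.2 = tAut := tAut_eq_mono.symm

theorem t_mul_s : negAut * tAut = eM octMask words_ok.1 := by
  rw [← eM_full words_ok.2.1, ← eM_out]
  exact eM_mul _ _ _ (by decide +kernel)

theorem eM_octad {n : ℕ} (h : inCode n = true) (h8 : bitCount n = 8) :
    IsConj (negAut * tAut) (eM n h) := by
  rw [t_mul_s]
  obtain ⟨g1, hg1, e1⟩ := octads_transitive
    (mem_wordsOfWeight.2 ⟨octMask, mem_golayList_of_inCode words_ok.1, octMask_ok.2.1, rfl⟩)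
  obtain ⟨g2, hg2, e2⟩ := octads_transitive (mem_wordsOfWeight.2 ⟨n, mem_golayList_of_inCode h, h8, rfl⟩)
  exact ((conj_eM hg1 words_ok.2.2.2.1 _ e1).symm).trans (conj_eM hg2 words_ok.2.2.2.1 _ e2)

/-- The sign change on the dodecad of squares. -/
def dEl : Co0 := eM baseDodecad words_ok.2.2.1

/-- A square root of the central involution. -/
noncomputable def fEl : Co0 := fM baseDodecad words_ok.2.2.1

theorem dEl_neg : IsConj dEl (negAut * dEl) := by
  have h : inCode (fullM ^^^ baseDodecad) = true := by decide +kernel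
  have e : negAut * dEl = eM (fullM ^^^ baseDodecad) h := by
    rw [← eM_full words_ok.2.1]
    exact eM_mul _ _ _ rfl
  rw [e]
  refine conj_eM projInv_mem _ _ ?_
  rw [smul_toSet proj_ok.1, show imgMask projL baseDodecad = fullM ^^^ baseDodecad by decide +kernel]

theorem fEl_sq : fEl * fEl = negAut :=
  (fM_mul _ _ words_ok.2.1 (by decide +kernel)).trans (eM_full _)

theorem fEl_neg : IsConj fEl (negAut * fEl) := by
  refine isConj_iff.2 ⟨dEl, mul_inv_eq_iff_eq_mul.2 ?_⟩
  have h0 : inCode 0 = true := by decide +kernel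
  have h : inCode (fullM ^^^ baseDodecad) = true := by decide +kernel
  rw [← eM_full words_ok.2.1, dEl, fEl, eM_mul_fM _ _ h0 (Nat.xor_self _), eM_mul_fM _ _ h rfl,
    fM_mul_eM _ _ h0 (by decide +kernel)]

theorem t_mul_t : negAut * negAut = (1 : Co0) := negAut_sq

theorem conj_t_mul {a b : Co0} (h : IsConj a b) : IsConj (negAut * a) (negAut * b) := by
  obtain ⟨g, rfl⟩ := isConj_iff.1 h
  exact isConj_iff.2 ⟨g, by rw [negAut_comm, negAut_comm, mul_assoc, mul_assoc, mul_assoc, mul_assoc,
    ← negAut_comm g⁻¹]⟩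

theorem not_anti' : ¬ IsConj tAut (negAut * tAut) := by
  intro h
  obtain ⟨g, hg⟩ := isConj_iff.1 h
  exact not_anticomm g (by rw [← mul_assoc]; exact mul_inv_eq_iff_eq_mul.1 hg)

theorem not_s_dEl : ¬ IsConj tAut dEl := fun h =>
  not_anti' ((h.trans dEl_neg).trans (conj_t_mul h).symm)

theorem not_ts_dEl : ¬ IsConj (negAut * tAut) dEl := fun h => by
  refine not_s_dEl ?_
  have h' := conj_t_mul h
  rw [← mul_assoc, t_mul_t, one_mul] at h'
  exact h'.trans dEl_neg.symm

theorem sq_conj {a b : Co0} (h : IsConj a b) (ha : a * a = negAut) : b * b = negAut := by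
  obtain ⟨g, rfl⟩ := isConj_iff.1 h
  calc g * a * g⁻¹ * (g * a * g⁻¹) = g * (a * a) * g⁻¹ := by group
    _ = negAut := by rw [ha, ← negAut_comm, mul_inv_cancel_right]

theorem sq_conj_one {a b : Co0} (h : IsConj a b) (ha : a * a = 1) : b * b = 1 := by
  obtain ⟨g, rfl⟩ := isConj_iff.1 h
  calc g * a * g⁻¹ * (g * a * g⁻¹) = g * (a * a) * g⁻¹ := by group
    _ = 1 := by rw [ha, mul_one, mul_inv_cancel]

theorem neg_sq {a : Co0} : negAut * a * (negAut * a) = a * a := by
  rw [mul_assoc, ← mul_assoc a, ← negAut_comm a, mul_assoc, ← mul_assoc, t_mul_t, one_mul]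

theorem mkOne_ne_one {a : Co0} (h1 : a ≠ 1) (ht : a ≠ negAut) : mkOne a ≠ 1 := fun h => by
  rcases mkOne_eq.1 (h.trans (map_one mkOne).symm) with e | e
  · exact h1 e
  · exact ht (e.trans (mul_one _))

theorem lift_conj {a b : Co0} (h : IsConj (mkOne a) (mkOne b)) : IsConj a b ∨ IsConj a (negAut * b) := by
  obtain ⟨g', hg⟩ := isConj_iff.1 h
  obtain ⟨g, rfl⟩ := QuotientGroup.mk'_surjective (Subgroup.center Co0) g'
  rw [← map_inv, ← map_mul, ← map_mul] at hg
  rcases mkOne_eq.1 hg with e | e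
  · exact Or.inl (isConj_iff.2 ⟨g, e⟩)
  · exact Or.inr (isConj_iff.2 ⟨g, e⟩)

/-- Three pairwise distinct classes among at most three are all of them. -/
theorem cover_three {H : Type*} [Group H] {P : H → Prop} {A B C a b c v : H}
    (hall : ∀ x, P x → IsConj x A ∨ IsConj x B ∨ IsConj x C) (ha : P a) (hb : P b) (hc : P c) (hv : P v)
    (hab : ¬ IsConj a b) (hac : ¬ IsConj a c) (hbc : ¬ IsConj b c) :
    IsConj v a ∨ IsConj v b ∨ IsConj v c := by
  classical
  let f : Fin 3 → H := ![A, B, C]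
  have key : ∀ x, P x → ∃ i, IsConj x (f i) := fun x hx => by
    rcases hall x hx with h | h | h
    exacts [⟨0, h⟩, ⟨1, h⟩, ⟨2, h⟩]
  obtain ⟨i, hi⟩ := key a ha
  obtain ⟨j, hj⟩ := key b hb
  obtain ⟨k, hk⟩ := key c hc
  obtain ⟨l, hl⟩ := key v hv
  have hij : i ≠ j := fun e => hab (hi.trans (e ▸ hj.symm))
  have hik : i ≠ k := fun e => hac (hi.trans (e ▸ hk.symm))
  have hjk : j ≠ k := fun e => hbc (hj.trans (e ▸ hk.symm))
  have hfin : ∀ i j k l : Fin 3, i ≠ j → i ≠ k → j ≠ k → l = i ∨ l = j ∨ l = k := by decide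
  have hl' := hfin i j k l hij hik hjk
  rcases hl' with e | e | e
  · exact Or.inl (hl.trans (e ▸ hi.symm))
  · exact Or.inr (Or.inl (hl.trans (e ▸ hj.symm)))
  · exact Or.inr (Or.inr (hl.trans (e ▸ hk.symm)))

theorem dEl_ne : dEl ≠ 1 ∧ dEl ≠ negAut := by
  have h0 : inCode 0 = true := by decide +kernel
  constructor
  · rw [← eM_zero h0]
    exact fun e => absurd (eM_inj (by decide +kernel) (by decide +kernel) e) (by decide +kernel)
  · rw [← eM_full words_ok.2.1]
    exact fun e => absurd (eM_inj (by decide +kernel) (by decide +kernel) e) (by decide +kernel)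

theorem one_ne_neg : (1 : Co0) ≠ negAut := negAut_ne.symm

theorem fEl_ne : fEl ≠ 1 ∧ fEl ≠ negAut := by
  constructor <;> intro e <;> have h := fEl_sq <;> rw [e] at h
  · exact one_ne_neg ((one_mul 1).symm.trans h)
  · exact one_ne_neg (t_mul_t.symm.trans h)

theorem tAut_ne_neg : tAut ≠ negAut := fun e =>
  zOne_ne_one (by rw [zOne, e]; exact (QuotientGroup.eq_one_iff _).2 negAut_central)

/-- The involutions of the quotient. -/
theorem one_classes {v : Spor.Co1} (hv : v * v = 1) (hv1 : v ≠ 1) :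
    IsConj v zOne ∨ IsConj v (mkOne dEl) ∨ IsConj v (mkOne fEl) := by
  haveI : Finite Co0 := Nat.finite_of_card_ne_zero (by rw [card_co0]; norm_num)
  obtain ⟨z, hz, Q, hQn, hF, hQ, hcard, ⟨e⟩, hnwc⟩ := co1_centralizer_eight
  haveI := hQn
  obtain ⟨t, Qg, R, π, π', ρ, ρ', C⟩ := CfsgLib.CoType.config_of_hyp z hz Q hF hQ hcard e hnwc
  obtain ⟨x₀, hx₀⟩ := C.P.exists_typeC false
  obtain ⟨x₁, hx₁⟩ := C.P.exists_typeC true
  simp only [Bool.false_eq_true, if_false, if_true] at hx₀ hx₁
  refine cover_three (P := fun x => x * x = 1 ∧ x ≠ 1) (fun x hx => C.classes hx₀ hx₁ hx.1 hx.2)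
    ⟨?_, zOne_ne_one⟩ ⟨?_, ?_⟩ ⟨?_, ?_⟩ ⟨hv, hv1⟩ ?_ ?_ ?_
  · rw [zOne, ← map_mul, tAut_mul_self, map_one]
  · rw [← map_mul, dEl, eM_sq, map_one]
  · exact mkOne_ne_one dEl_ne.1 dEl_ne.2
  · rw [← map_mul, fEl_sq]; exact (QuotientGroup.eq_one_iff _).2 negAut_central
  · exact mkOne_ne_one fEl_ne.1 fEl_ne.2
  · intro h
    rcases lift_conj h with k | k
    · exact not_s_dEl k
    · exact not_s_dEl (k.trans dEl_neg.symm)
  · intro h
    rcases lift_conj h with k | k
    · exact one_ne_neg ((sq_conj_one k tAut_mul_self).symm.trans fEl_sq)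
    · exact one_ne_neg ((sq_conj_one k tAut_mul_self).symm.trans (neg_sq.trans fEl_sq))
  · intro h
    rcases lift_conj h with k | k
    · exact one_ne_neg ((sq_conj_one k (eM_sq _)).symm.trans fEl_sq)
    · exact one_ne_neg ((sq_conj_one k (eM_sq _)).symm.trans (neg_sq.trans fEl_sq))

theorem twelve_conj {a : Co0} (h : IsTwelve negAut tAut a) : IsConj a dEl := by
  obtain ⟨h2, h1, ht, hs, hts⟩ := h
  rcases one_classes (v := mkOne a) (by rw [← map_mul, h2, map_one]) (mkOne_ne_one h1 ht) with k | k | k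
  · rcases lift_conj k with k | k
    · exact absurd k.symm hs
    · exact absurd k.symm hts
  · rcases lift_conj k with k | k
    · exact k
    · exact k.trans dEl_neg.symm
  · rcases lift_conj k with k | k
    · exact absurd ((sq_conj_one k h2).symm.trans fEl_sq) one_ne_neg
    · exact absurd ((sq_conj_one k h2).symm.trans (neg_sq.trans fEl_sq)) one_ne_neg

theorem four_conj {a : Co0} (h : a * a = negAut) : IsConj a fEl := by
  have h1 : a ≠ 1 := fun e => one_ne_neg (by rw [← h, e, one_mul])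
  have ht : a ≠ negAut := fun e => one_ne_neg (by rw [← h, e, t_mul_t])
  rcases one_classes (v := mkOne a)
      (by rw [← map_mul, h]; exact (QuotientGroup.eq_one_iff _).2 negAut_central) (mkOne_ne_one h1 ht) with k | k | k
  · rcases lift_conj k with k | k
    · exact absurd (tAut_mul_self.symm.trans (sq_conj k h)) one_ne_neg
    · exact absurd (tAut_mul_self.symm.trans (neg_sq.symm.trans (sq_conj k h))) one_ne_neg
  · rcases lift_conj k with k | k
    · exact absurd ((eM_sq _).symm.trans (sq_conj k h)) one_ne_neg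
    · exact absurd ((eM_sq _).symm.trans (neg_sq.symm.trans (sq_conj k h))) one_ne_neg
  · rcases lift_conj k with k | k
    · exact k
    · exact k.trans fEl_neg.symm

theorem eM_dodecad {n : ℕ} (h : inCode n = true) (h12 : bitCount n = 12) :
    IsTwelve negAut tAut (eM n h) := by
  obtain ⟨g, hg, e⟩ := dodecads_transitive (mem_wordsOfWeight.2 ⟨n, mem_golayList_of_inCode h, h12, rfl⟩)
  have hc : IsConj dEl (eM n h) := conj_eM hg _ _ e
  refine ⟨eM_sq h, fun k => dEl_ne.1 ?_, fun k => dEl_ne.2 ?_, fun k => not_s_dEl (k.trans hc.symm),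
    fun k => not_ts_dEl (k.trans hc.symm)⟩
  · rw [k] at hc; exact isConj_one_left.1 hc
  · rw [k] at hc
    obtain ⟨g', e'⟩ := isConj_iff.1 hc.symm
    rw [← e', ← negAut_comm, mul_inv_cancel_right]

/-- The kernel of the action in pairs. -/
theorem card_ker_toO : Nat.card toO.ker = 2 ^ 10 := by
  have hmem : ∀ (x : Bool) (y : toSp.ker), (if x then negAut else 1) * ((y : centS) : Co0) ∈ cent0 := by
    intro x y
    exact mul_mem (by cases x <;> simp [negAut_mem_cent0]) y.1.2.2
  let φ : Bool × toSp.ker → toO.ker := fun p => ⟨⟨_, hmem p.1 p.2⟩, mem_ker_toO.2 (by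
    obtain ⟨a, b, e⟩ := exists_kEl p.2.2
    have e' : ((p.2 : centS) : Co0) = kEl a b := congrArg Subtype.val e
    refine ⟨a, b, ?_⟩
    show _ * _ = _ ∨ _ * _ = _
    rw [e']
    cases p.1
    · exact Or.inl (one_mul _)
    · exact Or.inr rfl)⟩
  have hb : Function.Bijective φ := by
    refine ⟨fun p q hpq => ?_, fun g => ?_⟩
    · have h : (if p.1 then negAut else 1) * ((p.2 : centS) : Co0) =
          (if q.1 then negAut else 1) * ((q.2 : centS) : Co0) :=
        congrArg (fun w : toO.ker => ((w : cent0) : Co0)) hpq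
      obtain ⟨a, b, ea⟩ := exists_kEl p.2.2
      obtain ⟨a', b', eb⟩ := exists_kEl q.2.2
      have ea' : ((p.2 : centS) : Co0) = kEl a b := congrArg Subtype.val ea
      have eb' : ((q.2 : centS) : Co0) = kEl a' b' := congrArg Subtype.val eb
      obtain ⟨x, y⟩ := p
      obtain ⟨x', y'⟩ := q
      rw [ea', eb'] at h
      cases x <;> cases x' <;> simp only [Bool.false_eq_true, if_false, if_true, one_mul, mul_right_inj] at h
      · exact Prod.ext rfl (Subtype.ext (Subtype.ext (ea'.trans (h.trans eb'.symm))))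
      · exact absurd h (kEl_ne_neg _ _ _ _)
      · exact absurd h.symm (kEl_ne_neg _ _ _ _)
      · exact Prod.ext rfl (Subtype.ext (Subtype.ext (ea'.trans (h.trans eb'.symm))))
    · obtain ⟨a, b, h | h⟩ := mem_ker_toO.1 g.2
      · exact ⟨(false, ⟨kC a b, kC_mem_ker a b⟩), Subtype.ext (Subtype.ext (h.trans (one_mul _).symm).symm)⟩
      · exact ⟨(true, ⟨kC a b, kC_mem_ker a b⟩), Subtype.ext (Subtype.ext h.symm)⟩
  rw [← Nat.card_eq_of_bijective φ hb, Nat.card_prod, card_ker]
  norm_num

theorem odd_index' : Odd (Subgroup.centralizer ({tAut} : Set Co0)).index := by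
  have hr : Nat.card toO.range = 174182400 := by
    rw [← CfsgLib.CoType.card_omega, ← CfsgLib.Classical.coe_qPlus, ← range_actOne]
    have h : actOne.range = toO.range.map (CfsgLib.Classical.isoEquiv Q8).symm.toMonoidHom := by
      rw [range_actOne, range_eq]
      exact (CfsgLib.Classical.map_commutator_equiv (CfsgLib.Classical.isoEquiv Q8).symm).symm
    rw [h, Subgroup.card_map_of_injective (MulEquiv.injective _)]
  have hc : Nat.card cent0 = 2 ^ 10 * 174182400 := by
    rw [← card_ker_toO, ← hr, ← Subgroup.index_ker, Subgroup.card_mul_index]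
  have h := Subgroup.card_mul_index cent0
  rw [hc, card_co0] at h
  have : cent0.index = 46621575 := by omega
  show Odd cent0.index
  rw [this]
  decide

theorem core_eq : pCore 2 (Subgroup.centralizer ({tAut} : Set Co0)) = toO.ker := by
  refine le_antisymm ?_ (CfsgLib.Cores.le_pCore (IsPGroup.of_card card_ker_toO))
  rw [pCore, sSup_le_iff]
  rintro N ⟨hN, hp⟩ x hx
  have h : toCent x ∈ actOne.ker := pCore_eq_actKer ▸
    CfsgLib.Cores.le_pCore (N := N.map toCent) (hn := hN.map toCent toCent_surjective) (hp.map toCent)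
      (Subgroup.mem_map_of_mem toCent hx)
  rw [MonoidHom.mem_ker, actOne_toCent, EmbeddingLike.map_eq_one_iff] at h
  exact MonoidHom.mem_ker.2 h

theorem kEl_comm_cases (a a' : Fin 16) (b b' : Fin 32) :
    kEl a b * kEl a' b' * (kEl a b)⁻¹ * (kEl a' b')⁻¹ = 1 ∨
      kEl a b * kEl a' b' * (kEl a b)⁻¹ * (kEl a' b')⁻¹ = tAut := by
  rcases kEl_commutes a a' b b' with h | h <;> [left; right] <;> rw [h] <;> group

theorem central_comm {G : Type*} [Group G] {e e' x y : G} (he : ∀ g, e * g = g * e) (he' : ∀ g, e' * g = g * e') :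
    e * x * (e' * y) * (e * x)⁻¹ * (e' * y)⁻¹ = x * y * x⁻¹ * y⁻¹ := by
  calc e * x * (e' * y) * (e * x)⁻¹ * (e' * y)⁻¹ = e * (x * e') * y * x⁻¹ * e⁻¹ * y⁻¹ * e'⁻¹ := by group
    _ = e * (e' * (x * y * x⁻¹)) * e⁻¹ * y⁻¹ * e'⁻¹ := by rw [← he' x]; group
    _ = (e' * (x * y * x⁻¹)) * e * e⁻¹ * y⁻¹ * e'⁻¹ := by rw [he]
    _ = e' * (x * y * x⁻¹ * y⁻¹) * e'⁻¹ := by group
    _ = x * y * x⁻¹ * y⁻¹ := by rw [he', mul_inv_cancel_right]

theorem exists_facts : ∃ t s : Cfsg.Co0, Facts t s := by
  refine ⟨negAut, tAut, {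
    t_central := negAut_central
    t2 := negAut_sq
    t_ne := negAut_ne
    center_cases := fun z hz => center_cases hz
    s2 := tAut_mul_self
    s_ne := tAut_ne_one
    s_ne_t := tAut_ne_neg
    not_anti := not_anti'
    twelve := fun a b ha hb => (twelve_conj ha).trans (twelve_conj hb).symm
    four := fun a b ha hb => (four_conj ha).trans (four_conj hb).symm
    octads := ?_
    dodecads := ?_
    fours := ?_
    odd_index := odd_index'
    core_comm := ?_
    core_nonab := ?_ }⟩
  · have h3 : inCode (octMask ^^^ baseOctad) = true := by decide +kernel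
    refine ⟨eM octMask words_ok.1, eM baseOctad words_ok.2.2.2.1, eM_octad _ (by decide +kernel),
      eM_octad _ (by decide +kernel), ?_, eM_comm _ _⟩
    rw [eM_mul _ _ h3 rfl]
    exact eM_octad _ (by decide +kernel)
  · have h2 : inCode 28637 = true := by decide +kernel
    have h3 : inCode (baseDodecad ^^^ 28637) = true := by decide +kernel
    refine ⟨eM baseDodecad words_ok.2.2.1, eM 28637 h2, eM_dodecad _ (by decide +kernel),
      eM_dodecad _ (by decide +kernel), eM_comm _ _, Or.inr ?_⟩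
    rw [eM_mul _ _ h3 rfl]
    exact eM_octad _ (by decide +kernel)
  · have hb : inCode (208020 ^^^ baseDodecad) = true := by decide +kernel
    have hab : inCode (baseDodecad ^^^ imgMask projL (208020 ^^^ baseDodecad)) = true := by decide +kernel
    have hf : inCode (fullM ^^^ baseDodecad) = true := by decide +kernel
    refine ⟨fEl, fM _ hb, fEl_sq, (fM_mul _ _ words_ok.2.1 (by decide +kernel)).trans (eM_full _), ?_, ?_, ?_⟩
    · show _ * _ = _ * _
      rw [fEl, fM_mul _ _ hab rfl, fM_mul _ _ hab (by decide +kernel)]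
    · exact fun e => absurd (fM_inj (by decide +kernel) (by decide +kernel) e) (by decide +kernel)
    · rw [← eM_full words_ok.2.1, fEl, eM_mul_fM _ _ hf rfl]
      exact fun e => absurd (fM_inj (by decide +kernel) (by decide +kernel) e) (by decide +kernel)
  · intro x hx y hy
    rw [core_eq] at hx hy
    obtain ⟨a, b, ha⟩ := mem_ker_toO.1 hx
    obtain ⟨a', b', hb⟩ := mem_ker_toO.1 hy
    have key : ∀ e e' : Co0, (∀ g, e * g = g * e) → (∀ g, e' * g = g * e') →
        (x : Co0) = e * kEl a b → (y : Co0) = e' * kEl a' b' →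
        (x : Co0) * y * (x : Co0)⁻¹ * (y : Co0)⁻¹ = 1 ∨ (x : Co0) * y * (x : Co0)⁻¹ * (y : Co0)⁻¹ = tAut := by
      intro e e' he he' hx' hy'
      rw [hx', hy', central_comm he he']
      exact kEl_comm_cases a a' b b'
    have h1 : ∀ g : Co0, 1 * g = g * 1 := fun g => by rw [one_mul, mul_one]
    rcases ha with ha | ha <;> rcases hb with hb | hb
    · exact key 1 1 h1 h1 (by rw [ha, one_mul]) (by rw [hb, one_mul])
    · exact key 1 negAut h1 negAut_comm (by rw [ha, one_mul]) hb
    · exact key negAut 1 negAut_comm h1 ha (by rw [hb, one_mul])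
    · exact key negAut negAut negAut_comm negAut_comm ha hb
  · obtain ⟨b, hb⟩ := exists_moved_one
    obtain ⟨b0, h0⟩ := exists_dc_zero
    rw [core_eq]
    refine ⟨⟨kEl 0 b, kEl_mem0 0 b⟩, mem_ker_toO.2 ⟨0, b, Or.inl rfl⟩, ⟨kEl 1 b0, kEl_mem0 1 b0⟩,
      mem_ker_toO.2 ⟨1, b0, Or.inl rfl⟩, ?_⟩
    refine (kEl_comm_cases 0 1 b b0).resolve_left fun e => not_comm (a := 0) h0 hb ?_
    exact mul_inv_eq_iff_eq_mul.1 (mul_inv_eq_one.1 e)

end CfsgLib.CoNoughtStd
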